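import Mathlib
import Cfsg.Agent.Lib.Helper93.M11U.Defs
import Cfsg.Agent.Lib.Helper91.M11Inv
import Cfsg.Agent.Lib.Helper64.Order60
import Cfsg.Agent.S0494

/-!
# S0420 package [X0]: the two-point stabilizer `K ∩ uKu⁻¹` is `A₅`, normalized by `u` (helper97)
-/

set_option autoImplicit false

namespace Cfsg.Agent.Lib.Helper97.M11U

open Cfsg.Agent.Lib.Helper93.M11U

universe u

theorem mem_conjSub_iff {G : Type u} [Group G] (g x : G) (K : Subgroup G) :
    x ∈ conjSub g K ↔ g⁻¹ * x * g ∈ K := by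
  unfold conjSub
  rw [Subgroup.mem_map]
  constructor
  · rintro ⟨y, hy, rfl⟩
    have : g⁻¹ * (MulAut.conj g).toMonoidHom y * g = y := by
      simp only [MulEquiv.coe_toMonoidHom, MulAut.conj_apply]
      group
    rw [this]
    exact hy
  · intro h
    refine ⟨_, h, ?_⟩
    simp only [MulEquiv.coe_toMonoidHom, MulAut.conj_apply]
    group

theorem conj_three {G : Type u} [Group G] (u f : G) (hu4 : u ^ 4 = 1) :
    u * (u * (u * f * u⁻¹) * u⁻¹) * u⁻¹ = u⁻¹ * f * u := by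
  have h1 : u * u * u = u⁻¹ := by
    apply eq_inv_of_mul_eq_one_left
    calc u * u * u * u = u ^ 4 := by simp [pow_succ]
      _ = 1 := hu4
  have h2 : u⁻¹ * u⁻¹ * u⁻¹ = u := by
    have := congrArg (fun x => x⁻¹) h1
    simpa [mul_assoc, mul_inv_rev] using this
  calc u * (u * (u * f * u⁻¹) * u⁻¹) * u⁻¹ = (u * u * u) * f * (u⁻¹ * u⁻¹ * u⁻¹) := by
        simp only [mul_assoc]
    _ = u⁻¹ * f * u := by rw [h1, h2]

theorem pkgX0 : Cfsg.Agent.Lib.Helper93.M11U.PkgX0.{u} := by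
  intro G _ _ T hS hG C
  classical
  have : Fact (Nat.Prime 5) := ⟨by norm_num⟩
  have hcard : Nat.card ↥(X0 C) = 60 := C.two C.u C.huK
  have hu4 : C.u ^ 4 = 1 := by
    rw [← C.hu]
    exact pow_orderOf_eq_one _
  have hz : ∀ x ∈ Subgroup.zpowers C.f, C.u * x * C.u⁻¹ ∈ Subgroup.zpowers C.f := by
    rintro x ⟨k, rfl⟩
    have h1 : C.u * C.f ^ k * C.u⁻¹ = (C.u * C.f * C.u⁻¹) ^ k := (conj_zpow).symm
    show C.u * C.f ^ k * C.u⁻¹ ∈ Subgroup.zpowers C.f
    rw [h1]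
    exact Subgroup.zpow_mem _ C.hun k
  have hfz : C.f ∈ Subgroup.zpowers C.f := Subgroup.mem_zpowers C.f
  have hzK : Subgroup.zpowers C.f ≤ C.K := (Subgroup.zpowers_le).mpr C.hfK
  have hinv : C.u⁻¹ * C.f * C.u ∈ Subgroup.zpowers C.f := by
    have h3 := hz _ (hz _ (hz _ hfz))
    rw [conj_three C.u C.f hu4] at h3
    exact h3
  have hfX : C.f ∈ X0 C :=
    Subgroup.mem_inf.mpr ⟨C.hfK, (mem_conjSub_iff _ _ _).mpr (hzK hinv)⟩
  have huuX : C.u * C.u ∈ X0 C := by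
    refine Subgroup.mem_inf.mpr ⟨C.htK, (mem_conjSub_iff _ _ _).mpr ?_⟩
    have : C.u⁻¹ * (C.u * C.u) * C.u = C.u * C.u := by group
    rw [this]
    exact C.htK
  have hnorm : ∀ x ∈ X0 C, C.u * x * C.u⁻¹ ∈ X0 C := by
    intro x hx
    obtain ⟨hxK, hxc⟩ := Subgroup.mem_inf.mp hx
    rw [mem_conjSub_iff] at hxc
    refine Subgroup.mem_inf.mpr ⟨?_, (mem_conjSub_iff _ _ _).mpr ?_⟩
    · have : C.u * x * C.u⁻¹ = (C.u * C.u) * (C.u⁻¹ * x * C.u) * (C.u * C.u)⁻¹ := by group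
      rw [this]
      exact C.K.mul_mem (C.K.mul_mem C.htK hxc) (C.K.inv_mem C.htK)
    · have : C.u⁻¹ * (C.u * x * C.u⁻¹) * C.u = x := by group
      rw [this]
      exact hxK
  refine ⟨?_, hcard, hfX, huuX, hnorm⟩
  -- simplicity
  have hsimple : IsSimpleGroup ↥(X0 C) := by
    by_contra hns
    have := hS
    obtain ⟨P⟩ : Nonempty (Sylow 5 ↥(X0 C)) := inferInstance
    have hPn : (P : Subgroup ↥(X0 C)).Normal :=
      Cfsg.Agent.Lib.Helper64.Order60.sylow_five_normal_of_not_simple hcard hns P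
    have hPbot : (P : Subgroup ↥(X0 C)) ≠ ⊥ :=
      P.ne_bot_of_dvd_card (by rw [hcard]; norm_num)
    have hP'p : IsPGroup 5 ↥((P : Subgroup ↥(X0 C)).map (X0 C).subtype) :=
      P.isPGroup'.map _
    obtain ⟨Q, hQ⟩ := hP'p.exists_le_sylow
    obtain ⟨hQ5, hQN, -, -⟩ := Cfsg.Agent.Lib.Helper91.M11.sylow5_full hG Q
    have hP'bot : (P : Subgroup ↥(X0 C)).map (X0 C).subtype ≠ ⊥ := by
      intro h
      apply hPbot
      rw [Subgroup.map_eq_bot_iff_of_injective _ (X0 C).subtype_injective] at h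
      exact h
    have hP'card : Nat.card ↥((P : Subgroup ↥(X0 C)).map (X0 C).subtype) = 5 := by
      have hdvd := Subgroup.card_dvd_of_le hQ
      rw [hQ5] at hdvd
      rcases (Nat.dvd_prime (by norm_num : Nat.Prime 5)).mp hdvd with h | h
      · exact absurd (Subgroup.card_eq_one.mp h) hP'bot
      · exact h
    have hPQ : (P : Subgroup ↥(X0 C)).map (X0 C).subtype = (Q : Subgroup G) :=
      Subgroup.eq_of_le_of_card_ge hQ (by rw [hQ5, hP'card])
    have hle : X0 C ≤ Subgroup.normalizer ((Q : Subgroup G) : Set G) := by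
      rw [← hPQ]
      have hc : ∀ x ∈ X0 C, ∀ n ∈ (P : Subgroup ↥(X0 C)).map (X0 C).subtype,
          x * n * x⁻¹ ∈ (P : Subgroup ↥(X0 C)).map (X0 C).subtype := by
        rintro x hx _ ⟨p, hp, rfl⟩
        exact ⟨⟨x, hx⟩ * p * ⟨x, hx⟩⁻¹, hPn.conj_mem p hp ⟨x, hx⟩, rfl⟩
      intro x hx
      rw [Subgroup.mem_normalizer_iff]
      intro n
      refine ⟨hc x hx n, fun hn => ?_⟩
      have := hc x⁻¹ ((X0 C).inv_mem hx) _ hn
      simpa [mul_assoc] using this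
    have := Subgroup.card_le_of_le hle
    omega
  exact Cfsg.Agent.S0494.result hcard

end Cfsg.Agent.Lib.Helper97.M11U
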